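import Groth.Agent.LocCohLib.DTCoh
import Mathlib.Algebra.Module.LocalizedModule.Basic

/-!
# The ideal transform inside the product of the localisations at generators
-/

set_option autoImplicit false
set_option linter.style.haveILetI false

universe u

open Groth.Agent.LocCohLib

noncomputable section

namespace Groth.Agent.GrH1Lib

variable {R : Type u} [CommRing R] [IsNoetherianRing R] {ι : Type*} [Fintype ι] (f : ι → R)
  (M : Type u) [AddCommGroup M] [Module R M]

/-- The ideal of the generators. -/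
abbrev gI : Ideal R := Ideal.span (Set.range f)

theorem mem_gI (j : ι) (n : ℕ) : f j ^ n ∈ gI f ^ n :=
  Ideal.pow_mem_pow (Ideal.subset_span (Set.mem_range_self j) : f j ∈ gI f) n

theorem exists_pow_le (K : ℕ) : ∃ n, gI f ^ n ≤ Ideal.span (Set.range fun j => f j ^ K) :=
  Ideal.exists_pow_le_of_le_radical_of_fg
    (Ideal.span_le.2 (by rintro _ ⟨j, rfl⟩; exact ⟨K, Ideal.subset_span ⟨j, rfl⟩⟩)) (IsNoetherian.noetherian _)

theorem mem_torsion_of_forall (z : M) (h : ∀ j, ∃ k, f j ^ k • z = 0) : z ∈ DRing.torsionSub (gI f) M := by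
  classical
  choose k hk using h
  let K := Finset.univ.sup k
  obtain ⟨n, hn⟩ := exists_pow_le f K
  refine ⟨n, fun a ha => ?_⟩
  have hle : Ideal.span (Set.range fun j => f j ^ K) ≤ LinearMap.ker (LinearMap.toSpanSingleton R M z) := by
    refine Ideal.span_le.2 ?_
    rintro _ ⟨j, rfl⟩
    show f j ^ K • z = 0
    have hjK : k j ≤ K := Finset.le_sup (f := k) (Finset.mem_univ j)
    rw [← Nat.sub_add_cancel hjK, pow_add, mul_smul, hk, smul_zero]
  exact hle (hn ha)

/-- The product of the localisations. -/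
abbrev P : Type _ := ∀ j : ι, LocalizedModule (Submonoid.powers (f j)) M

/-- The tuple of a map on a power of the ideal. -/
def phi0 (n : ℕ) : (↥(gI f ^ n) →ₗ[R] M) →ₗ[R] P f M where
  toFun φ j := LocalizedModule.mk (φ ⟨f j ^ n, mem_gI f j n⟩) ⟨f j ^ n, n, rfl⟩
  map_add' φ ψ := funext fun j => by
    show _ = LocalizedModule.mk _ _ + LocalizedModule.mk _ _
    rw [LocalizedModule.mk_add_mk, LinearMap.add_apply, LocalizedModule.mk_eq]
    refine ⟨1, ?_⟩
    simp only [one_smul, Submonoid.smul_def, Submonoid.coe_mul, smul_add, smul_smul]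
  map_smul' a φ := funext fun j => by
    show _ = a • LocalizedModule.mk _ _
    rw [LinearMap.smul_apply, LocalizedModule.smul'_mk]

variable {f M}

theorem phi0_res {n m : ℕ} (h : n ≤ m) (φ : ↥(gI f ^ n) →ₗ[R] M) :
    phi0 f M m (φ ∘ₗ Submodule.inclusion (powLe h)) = phi0 f M n φ := funext fun j => by
  show LocalizedModule.mk _ _ = LocalizedModule.mk _ _
  rw [LocalizedModule.mk_eq]
  refine ⟨1, ?_⟩
  simp only [one_smul, Submonoid.smul_def, LinearMap.comp_apply]
  rw [← map_smul φ, ← map_smul φ]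
  refine congrArg φ ?_
  exact Subtype.ext (mul_comm _ _)

theorem phi0_congr {n m : ℕ} {φ : ↥(gI f ^ n) →ₗ[R] M} {ψ : ↥(gI f ^ m) →ₗ[R] M}
    (h : dι (gI f) M n φ = dι (gI f) M m ψ) : phi0 f M n φ = phi0 f M m ψ := by
  have h' : dι (gI f) M (max n m) (φ ∘ₗ Submodule.inclusion (powLe (le_max_left n m)) -
      ψ ∘ₗ Submodule.inclusion (powLe (le_max_right n m))) = 0 := by
    rw [map_sub, dι_res (le_max_left n m), dι_res (le_max_right n m), h, sub_self]
  obtain ⟨K, hK, hz⟩ := (dι_eq_zero_iff _).1 h'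
  have h0 := congrArg (phi0 f M K) hz
  rw [phi0_res hK, map_zero, map_sub, phi0_res (le_max_left n m), phi0_res (le_max_right n m), sub_eq_zero] at h0
  exact h0

variable (f M) in
/-- The ideal transform in the product of the localisations. -/
def phi : LocCoh.DT (gI f) M →+ P f M :=
  AddMonoidHom.mk' (fun z => phi0 f M (exists_dι z).choose (exists_dι z).choose_spec.choose) fun z w => by
    obtain ⟨n, φ, rfl⟩ := exists_dι z
    obtain ⟨m, ψ, rfl⟩ := exists_dι w
    have e : ∀ {k : ℕ} (χ : ↥(gI f ^ k) →ₗ[R] M), phi0 f M (exists_dι (dι (gI f) M k χ)).choose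
        (exists_dι (dι (gI f) M k χ)).choose_spec.choose = phi0 f M k χ := fun χ =>
      phi0_congr (exists_dι _).choose_spec.choose_spec
    have hsum : dι (gI f) M n φ + dι (gI f) M m ψ = dι (gI f) M (max n m)
        (φ ∘ₗ Submodule.inclusion (powLe (le_max_left n m)) + ψ ∘ₗ Submodule.inclusion (powLe (le_max_right n m))) := by
      rw [map_add, dι_res (le_max_left n m), dι_res (le_max_right n m)]
    rw [hsum, e, e, e, map_add, phi0_res (le_max_left n m), phi0_res (le_max_right n m)]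

theorem phi_dι {n : ℕ} (φ : ↥(gI f ^ n) →ₗ[R] M) : phi f M (dι (gI f) M n φ) = phi0 f M n φ :=
  phi0_congr (exists_dι _).choose_spec.choose_spec

theorem phi_toDT (x : M) (j : ι) : phi f M (LocCoh.toDT (gI f) M x) j = LocalizedModule.mk x 1 := by
  rw [toDT_eq, phi_dι]
  show LocalizedModule.mk _ _ = _
  rw [LocalizedModule.mk_eq]
  refine ⟨1, ?_⟩
  simp [Submonoid.smul_def]

theorem phi_injective : Function.Injective (phi f M) := by
  refine (injective_iff_map_eq_zero _).2 fun z hz => ?_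
  obtain ⟨n, φ, rfl⟩ := exists_dι z
  rw [phi_dι] at hz
  refine eq_of_smul_eq (IsNoetherian.noetherian _) n fun a ha => ?_
  rw [smul_zero, smul_dι ha, toDT_eq_zero_iff]
  refine mem_torsion_of_forall f M _ fun j => ?_
  have hj : LocalizedModule.mk (φ ⟨f j ^ n, mem_gI f j n⟩) (⟨f j ^ n, n, rfl⟩ : Submonoid.powers (f j)) = 0 :=
    congrFun hz j
  rw [← LocalizedModule.zero_mk 1, LocalizedModule.mk_eq] at hj
  obtain ⟨⟨_, k, rfl⟩, hk⟩ := hj
  simp only [Submonoid.smul_def, smul_zero, OneMemClass.coe_one, one_smul] at hk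
  refine ⟨k + n, ?_⟩
  have e : f j ^ n • φ ⟨a, ha⟩ = a • φ ⟨f j ^ n, mem_gI f j n⟩ := by
    rw [← map_smul, ← map_smul]
    exact congrArg φ (Subtype.ext (mul_comm _ _))
  rw [pow_add, mul_smul, e, smul_comm, hk, smul_zero]

theorem exists_of_compat (K : ℕ) (m : ι → M) (h : ∀ i j, f i ^ K • m j = f j ^ K • m i) :
    ∃ z, ∀ j, phi f M z j = LocalizedModule.mk (m j) (⟨f j ^ K, K, rfl⟩ : Submonoid.powers (f j)) := by
  classical
  let T := DRing.torsionSub (gI f) M
  let c : (ι → R) →ₗ[R] R := Fintype.linearCombination R fun j => f j ^ K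
  let c' : (ι → R) →ₗ[R] M ⧸ T := T.mkQ ∘ₗ Fintype.linearCombination R m
  have hker : ∀ a, c a = 0 → c' a = 0 := fun a ha => by
    refine (Submodule.Quotient.mk_eq_zero _).2 (mem_torsion_of_forall f M _ fun i => ⟨K, ?_⟩)
    simp only [c, Fintype.linearCombination_apply, smul_eq_mul] at ha ⊢
    rw [Finset.smul_sum]
    simp_rw [smul_comm (f i ^ K), h i, smul_smul, ← Finset.sum_smul, ha, zero_smul]
  obtain ⟨n₀, hn₀⟩ := exists_pow_le f K
  let n := n₀ + K
  have hn : ∀ x : ↥(gI f ^ n), ∃ a, c a = (x : R) := fun x => by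
    have hx := hn₀ (Ideal.pow_le_pow_right (Nat.le_add_right n₀ K) x.2)
    obtain ⟨a, ha⟩ := Ideal.mem_span_range_iff_exists_fun.1 hx
    exact ⟨a, by simpa [c, Fintype.linearCombination_apply] using ha⟩
  choose a ha using hn
  let ψ : ↥(gI f ^ n) →ₗ[R] M ⧸ T :=
    { toFun := fun x => c' (a x)
      map_add' := fun x y => by
        rw [← map_add, ← sub_eq_zero, ← map_sub]
        exact hker _ (by simp [map_sub, map_add, ha])
      map_smul' := fun r x => by
        rw [RingHom.id_apply, ← map_smul, ← sub_eq_zero, ← map_sub]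
        exact hker _ (by simp [map_sub, map_smul, ha]) }
  obtain ⟨k, hk, φ, hφ⟩ := exists_lift ψ
  refine ⟨dι (gI f) M k φ, fun j => ?_⟩
  rw [phi_dι]
  have hKk : K ≤ k := (Nat.le_add_left K n₀).trans hk
  have h1 : φ ⟨f j ^ k, mem_gI f j k⟩ - f j ^ (k - K) • m j ∈ T := by
    rw [← Submodule.Quotient.mk_eq_zero, Submodule.Quotient.mk_sub, sub_eq_zero]
    refine (LinearMap.congr_fun hφ ⟨f j ^ k, mem_gI f j k⟩).trans ?_
    refine Eq.trans ?_ (show c' (Pi.single j (f j ^ (k - K))) = _ by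
      simp [c', Fintype.linearCombination_apply_single])
    show c' (a _) = c' _
    rw [← sub_eq_zero, ← map_sub]
    refine hker _ ?_
    rw [map_sub, ha, sub_eq_zero]
    simp only [c, Fintype.linearCombination_apply_single, smul_eq_mul, Submodule.coe_inclusion, ← pow_add,
      Nat.sub_add_cancel hKk]
  obtain ⟨q, hq⟩ := h1
  show LocalizedModule.mk _ _ = LocalizedModule.mk _ _
  rw [LocalizedModule.mk_eq]
  refine ⟨⟨f j ^ q, q, rfl⟩, ?_⟩
  have hq' := hq _ (mem_gI f j q)
  rw [smul_sub, sub_eq_zero] at hq'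
  simp only [Submonoid.smul_def]
  rw [smul_comm (f j ^ q) (f j ^ K), hq', smul_smul, smul_smul, smul_smul, ← pow_add, ← pow_add, ← pow_add]
  congr 2
  omega

end Groth.Agent.GrH1Lib
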