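import Groth.Agent.GrH1Lib.DTLoc
import Groth.Agent.GrModLib.Section
import Groth.Agent.GrModLib.Eventually

/-!
# The graded sections of the twists inside the product of the localisations, and `H¹` of the irrelevant ideal
-/

set_option autoImplicit false
set_option backward.isDefEq.respectTransparency false
set_option linter.style.haveILetI false
set_option linter.unusedSectionVars false

universe u

open CategoryTheory TopologicalSpace AlgebraicGeometry Opposite
open Groth.Agent.GrModLib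

noncomputable section

namespace Groth.Agent.GrH1Lib

variable {A σ : Type u} [CommRing A] [IsNoetherianRing A] [SetLike σ A] [AddSubgroupClass σ A] (𝒜 : ℕ → σ) [GradedRing 𝒜]
variable {M τ : Type u} [AddCommGroup M] [Module A M] [SetLike τ M] [AddSubgroupClass τ M]
  (ℳ : ℕ → τ) [DirectSum.Decomposition ℳ] [SetLike.GradedSMul 𝒜 ℳ]

/-- The component in an integral degree. -/
def cz (N : ℤ) : M →+ M := if 0 ≤ N then cp ℳ N.toNat else 0

theorem cz_natCast (n : ℕ) : cz ℳ (n : ℤ) = cp ℳ n := by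
  rw [cz, if_pos (Int.natCast_nonneg n), Int.toNat_natCast]

theorem cz_neg {N : ℤ} (h : N < 0) (z : M) : cz ℳ N z = 0 := by
  rw [cz, if_neg (not_le.2 h), AddMonoidHom.zero_apply]

theorem cz_hom {i : ℕ} {m : M} (hm : m ∈ ℳ i) (N : ℤ) : cz ℳ N m = if N = i then m else 0 := by
  by_cases h : 0 ≤ N
  · obtain ⟨k, rfl⟩ := Int.eq_ofNat_of_zero_le h
    rw [cz_natCast]
    by_cases hk : k = i
    · subst hk
      rw [if_pos rfl, cp_same hm]
    · rw [if_neg (by omega)]
      exact DirectSum.decompose_of_mem_ne ℳ hm (Ne.symm hk)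
  · rw [cz_neg ℳ (not_le.1 h), if_neg (by omega)]

variable {𝒜} in
theorem cz_smul {e : ℕ} {a : A} (ha : a ∈ 𝒜 e) (N : ℤ) (z : M) : cz ℳ (e + N) (a • z) = a • cz ℳ N z := by
  induction z using DirectSum.Decomposition.inductionOn ℳ with
  | zero => simp
  | add z z' h h' => rw [smul_add, map_add, map_add, h, h', smul_add]
  | @homogeneous i m =>
    have hm : a • (m : M) ∈ ℳ (e + i) := SetLike.GradedSMul.smul_mem ha m.2
    rw [cz_hom ℳ m.2, cz_hom ℳ hm]
    by_cases h : N = i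
    · rw [if_pos h, if_pos (by push_cast; omega)]
    · rw [if_neg h, if_neg (by push_cast; omega), smul_zero]

theorem cz_mem {N : ℤ} {k : ℕ} (h : (k : ℤ) = N) (z : M) : cz ℳ N z ∈ ℳ k := by
  subst h
  rw [cz_natCast]
  exact cp_mem k z

/-- Global sections. -/
abbrev Sec (n : ℤ) : Type u := ((GrMod.tilde 𝒜 ℳ n).val.obj (op ⊤) : Type u)

variable {𝒜 ℳ}

/-- The value of a global section. -/
abbrev val {n : ℤ} (s : Sec 𝒜 ℳ n) (x : ProjectiveSpectrum 𝒜) : GrMod.LocMod 𝒜 (M := M) x :=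
  valAt (𝒜 := 𝒜) (V := (⊤ : (Proj 𝒜).Opens)) s ⟨x, trivial⟩

variable {ι : Type u} [Fintype ι] (f : ι → A) (d : ι → ℕ) (hd : ∀ j, 0 < d j) (hf : ∀ j, f j ∈ 𝒜 (d j))

theorem pow_mem_deg (hf : ∀ j, f j ∈ 𝒜 (d j)) (j : ι) (p : ℕ) : f j ^ p ∈ 𝒜 (p * d j) := by
  simpa [smul_eq_mul] using SetLike.pow_mem_graded p (hf j)

theorem pow_notMem {x : ProjectiveSpectrum 𝒜} {j : ι} (hx : f j ∉ x.asHomogeneousIdeal) (p : ℕ) :
    f j ^ p ∉ x.asHomogeneousIdeal := fun h => hx (x.isPrime.mem_of_pow_mem p h)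

/-- `m / f_j ^ p` represents the section on `D₊(f_j)`. -/
def IsRep {n : ℤ} (s : Sec 𝒜 ℳ n) (j : ι) (p : ℕ) (m : M) : Prop :=
  (∀ N : ℤ, N ≠ p * d j + n → cz ℳ N m = 0) ∧ ∀ x : ProjectiveSpectrum 𝒜, ∀ hx : f j ∉ x.asHomogeneousIdeal,
    val s x = LocalizedModule.mk m ⟨f j ^ p, pow_notMem f hx p⟩

include hf in
theorem IsRep.shift {n : ℤ} {s : Sec 𝒜 ℳ n} {j : ι} {p : ℕ} {m : M} (h : IsRep f d s j p m) (k : ℕ) :
    IsRep f d s j (p + k) (f j ^ k • m) := by
  refine ⟨fun N hN => ?_, fun x hx => (h.2 x hx).trans (LocalizedModule.mk_eq.2 ⟨1, ?_⟩)⟩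
  · have h1 := cz_smul ℳ (pow_mem_deg f d hf j k) (N - (k * d j : ℕ)) m
    rw [add_sub_cancel] at h1
    rw [h1, h.1 _ (by push_cast at hN ⊢; intro e; apply hN; linarith), smul_zero]
  · simp only [one_smul, Submonoid.smul_def, pow_add, mul_smul]

theorem IsRep.mem {n : ℤ} {s : Sec 𝒜 ℳ n} {j : ι} {p : ℕ} {m : M} (h : IsRep f d s j p m) :
    m = 0 ∨ ∃ i : ℕ, (i : ℤ) = p * d j + n ∧ m ∈ ℳ i := by
  classical
  by_cases hn : 0 ≤ (p : ℤ) * d j + n
  · obtain ⟨i, hi⟩ := Int.eq_ofNat_of_zero_le hn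
    refine Or.inr ⟨i, hi.symm, ?_⟩
    rw [← DirectSum.sum_support_decompose ℳ m]
    refine sum_mem fun k _ => ?_
    by_cases hk : k = i
    · subst hk
      exact (DirectSum.decompose ℳ m k).2
    · have := h.1 k (by rw [hi]; omega)
      rw [cz_natCast] at this
      rw [show (DirectSum.decompose ℳ m k : M) = cp ℳ k m from rfl, this]
      exact zero_mem _
  · left
    rw [← DirectSum.sum_support_decompose ℳ m]
    refine Finset.sum_eq_zero fun k _ => ?_
    have := h.1 k (by omega)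
    rwa [cz_natCast] at this

include hd hf

/-- Two representatives agree in the localisation. -/
theorem IsRep.eq {n : ℤ} {s : Sec 𝒜 ℳ n} {j : ι} {p p' : ℕ} {m m' : M} (h : IsRep f d s j p m)
    (h' : IsRep f d s j p' m') :
    LocalizedModule.mk m (⟨f j ^ p, p, rfl⟩ : Submonoid.powers (f j)) =
      LocalizedModule.mk m' (⟨f j ^ p', p', rfl⟩ : Submonoid.powers (f j)) := by
  have a := h.shift f d hf p'
  have b := h'.shift f d hf p
  rw [add_comm p' p] at b
  have key : ∃ N, f j ^ N • (f j ^ p' • m - f j ^ p • m') = 0 := by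
    have hx : ∀ x : ProjectiveSpectrum 𝒜, f j ∉ x.asHomogeneousIdeal →
        ∃ t : A, t ∉ x.asHomogeneousIdeal ∧ t • (f j ^ p' • m - f j ^ p • m') = 0 := fun x hx => by
      obtain ⟨⟨t, ht⟩, e⟩ := LocalizedModule.mk_eq.1 ((a.2 x hx).symm.trans (b.2 x hx))
      simp only [Submonoid.smul_def] at e
      rw [smul_smul t, smul_smul t, ← sub_eq_zero, ← smul_sub] at e
      refine ⟨t * f j ^ (p + p'), fun hm => (x.isPrime.mem_or_mem hm).elim ht (pow_notMem f hx _), e⟩
    rcases IsRep.mem f d a with ha | ⟨i, hi, ha⟩ <;> rcases IsRep.mem f d b with hb | ⟨i', hi', hb⟩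
    · exact ⟨0, by rw [ha, hb, sub_zero, smul_zero]⟩
    · rw [ha] at hx ⊢
      rw [zero_sub] at hx ⊢
      exact exists_pow_smul_eq_zero (hd j) (hf j) (⟨_, neg_mem hb⟩ : ℳ i') hx
    · rw [hb] at hx ⊢
      rw [sub_zero] at hx ⊢
      exact exists_pow_smul_eq_zero (hd j) (hf j) (⟨_, ha⟩ : ℳ i) hx
    · obtain rfl : i = i' := by omega
      exact exists_pow_smul_eq_zero (hd j) (hf j) (⟨_, sub_mem ha hb⟩ : ℳ i) hx
  obtain ⟨N, hN⟩ := key
  rw [smul_sub, sub_eq_zero] at hN
  exact LocalizedModule.mk_eq.2 ⟨⟨f j ^ N, N, rfl⟩, hN⟩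

theorem exists_isRep {n : ℤ} (s : Sec 𝒜 ℳ n) (j : ι) : ∃ p m, IsRep f d s j p m := by
  obtain ⟨p, i, m, hi, h⟩ := exists_frac_eq (hd j) (hf j)
    ((GrMod.tilde 𝒜 ℳ n).presheaf.map (homOfLE (le_top : Proj.basicOpen 𝒜 (f j) ≤ ⊤)).op s)
  refine ⟨p, m.1, fun N hN => ?_, fun x hx => h ⟨x, hx⟩⟩
  rw [cz_hom ℳ m.2, if_neg (by rw [hi]; exact hN)]

/-- A global section as a tuple. -/
def psiN (n : ℤ) : Sec 𝒜 ℳ n →+ P f M :=
  AddMonoidHom.mk' (fun s j => LocalizedModule.mk (exists_isRep f d hd hf s j).choose_spec.choose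
    ⟨f j ^ (exists_isRep f d hd hf s j).choose, _, rfl⟩) fun s t => funext fun j => by
    have E : ∀ {u : Sec 𝒜 ℳ n} {q : ℕ} {w : M}, IsRep f d u j q w →
        (LocalizedModule.mk (exists_isRep f d hd hf u j).choose_spec.choose
          (⟨f j ^ (exists_isRep f d hd hf u j).choose, _, rfl⟩ : Submonoid.powers (f j)) :
          LocalizedModule (Submonoid.powers (f j)) M) = LocalizedModule.mk w (⟨f j ^ q, q, rfl⟩ : Submonoid.powers (f j)) :=
      fun {u q w} h => (exists_isRep f d hd hf u j).choose_spec.choose_spec.eq f d hd hf h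
    obtain ⟨p, m, h₁⟩ := exists_isRep f d hd hf s j
    obtain ⟨p', m', h₂⟩ := exists_isRep f d hd hf t j
    have a := h₁.shift f d hf p'
    have b := h₂.shift f d hf p
    rw [add_comm p' p] at b
    have hab : IsRep f d (s + t) j (p + p') (f j ^ p' • m + f j ^ p • m') := by
      refine ⟨fun N hN => by rw [map_add, a.1 N hN, b.1 N hN, add_zero], fun x hx => ?_⟩
      refine (valAt_add (V := (⊤ : (Proj 𝒜).Opens)) s t ⟨x, trivial⟩).trans ?_
      show val s x + val t x = _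
      rw [a.2 x hx, b.2 x hx, LocalizedModule.mk_add_mk, LocalizedModule.mk_eq]
      refine ⟨1, ?_⟩
      simp only [one_smul, Submonoid.smul_def, Submonoid.coe_mul, smul_add, smul_smul, mul_assoc]
    refine (E hab).trans ?_
    show _ = LocalizedModule.mk _ _ + LocalizedModule.mk _ _
    rw [E h₁, E h₂, LocalizedModule.mk_add_mk, LocalizedModule.mk_eq]
    refine ⟨1, ?_⟩
    simp only [one_smul, Submonoid.smul_def, Submonoid.coe_mul, pow_add]

theorem psiN_eq {n : ℤ} {s : Sec 𝒜 ℳ n} {j : ι} {p : ℕ} {m : M} (h : IsRep f d s j p m) :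
    psiN f d hd hf n s j = LocalizedModule.mk m (⟨f j ^ p, p, rfl⟩ : Submonoid.powers (f j)) :=
  (exists_isRep f d hd hf s j).choose_spec.choose_spec.eq f d hd hf h

/-- All degrees at once. -/
def psi : DirectSum ℤ (Sec 𝒜 ℳ) →+ P f M := DirectSum.toAddMonoid (psiN f d hd hf)

theorem psi_alpha (i : ℕ) (m : ℳ i) (j : ι) :
    psi f d hd hf (DirectSum.of (Sec 𝒜 ℳ) (i : ℤ) (GrMod.alpha 𝒜 ℳ i m)) j = LocalizedModule.mk m.1 1 := by
  rw [psi, DirectSum.toAddMonoid_of]
  refine (psiN_eq f d hd hf (p := 0) (m := m.1) ⟨fun N hN => ?_, fun x hx => ?_⟩).trans ?_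
  · rw [cz_hom ℳ m.2, if_neg (by simpa using hN)]
  · show (LocalizedModule.mk m.1 1 : GrMod.LocMod 𝒜 (M := M) x) = _
    exact congrArg _ (Subtype.ext (pow_zero (f j)).symm)
  · exact congrArg _ (Subtype.ext (pow_zero (f j)))

variable (hirr : (HomogeneousIdeal.irrelevant 𝒜).toIdeal = gI f)
include hirr

omit hd hf in
theorem exists_notMem (x : ProjectiveSpectrum 𝒜) : ∃ j, f j ∉ x.asHomogeneousIdeal := by
  by_contra h
  push Not at h
  refine x.not_irrelevant_le (show (HomogeneousIdeal.irrelevant 𝒜).toIdeal ≤ x.asHomogeneousIdeal.toIdeal from ?_)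
  rw [hirr]
  exact Ideal.span_le.2 (by rintro _ ⟨j, rfl⟩; exact h j)

theorem psi_injective : Function.Injective (psi (ℳ := ℳ) f d hd hf) := by
  classical
  refine (injective_iff_map_eq_zero _).2 fun w hw => DFinsupp.ext fun n => sect_ext fun x => ?_
  show val (w n) x.1 = 0
  obtain ⟨j, hj⟩ := exists_notMem f hirr x.1
  choose p m hm using fun k : ℤ => exists_isRep f d hd hf (w k) j
  let Q := w.support.sup p
  let m' : ℤ → M := fun k => f j ^ (Q - p k) • m k
  have hm' : ∀ k ∈ w.support, IsRep f d (w k) j Q (m' k) := fun k hk => by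
    have := (hm k).shift f d hf (Q - p k)
    rwa [Nat.add_sub_cancel' (Finset.le_sup (f := p) hk)] at this
  have hsum : psi f d hd hf w j =
      LocalizedModule.mk (∑ k ∈ w.support, m' k) (⟨f j ^ Q, Q, rfl⟩ : Submonoid.powers (f j)) := by
    conv_lhs => rw [← DirectSum.sum_support_of w, map_sum, Finset.sum_apply]
    let l : M →+ LocalizedModule (Submonoid.powers (f j)) M :=
      AddMonoidHom.mk' (fun z => LocalizedModule.mk z ⟨f j ^ Q, Q, rfl⟩) fun y z => by
        rw [LocalizedModule.mk_add_mk, LocalizedModule.mk_eq]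
        refine ⟨1, ?_⟩
        simp only [one_smul, Submonoid.smul_def, Submonoid.coe_mul, smul_add, smul_smul]
    refine (Finset.sum_congr rfl fun k hk => ?_).trans (map_sum l m' _).symm
    rw [psi, DirectSum.toAddMonoid_of]
    exact psiN_eq f d hd hf (hm' k hk)
  have h0 : psi f d hd hf w j = 0 := congrFun hw j
  rw [hsum, ← LocalizedModule.zero_mk 1, LocalizedModule.mk_eq] at h0
  obtain ⟨⟨_, q, rfl⟩, hq⟩ := h0
  simp only [Submonoid.smul_def, smul_zero, one_smul, OneMemClass.coe_one] at hq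
  by_cases hn : n ∈ w.support
  · have h1 := congrArg (cz ℳ ((q * d j : ℕ) + (Q * d j + n))) hq
    rw [map_zero, cz_smul ℳ (pow_mem_deg f d hf j q), map_sum, Finset.sum_eq_single n
      (fun k hk hkn => (hm' k hk).1 _ (by intro e; exact hkn (by omega))) (fun h => absurd hn h)] at h1
    have h2 : cz ℳ (Q * d j + n) (m' n) = m' n := by
      rcases (hm' n hn).mem f d with h | ⟨i, hi, h⟩
      · rw [h, map_zero]
      · rw [cz_hom ℳ h, if_pos hi.symm]
    rw [h2] at h1
    rw [(hm' n hn).2 x.1 hj]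
    exact mk_eq_zero.2 ⟨_, pow_notMem f hj q, h1⟩
  · rw [DFinsupp.notMem_support_iff.1 hn]
    rfl

theorem exists_psi_eq (n : ℕ) (m : ι → M) (h : ∀ i j, f i ^ n • m j = f j ^ n • m i) :
    ∃ w, ∀ j, psi (ℳ := ℳ) f d hd hf w j = LocalizedModule.mk (m j) (⟨f j ^ n, n, rfl⟩ : Submonoid.powers (f j)) := by
  classical
  choose J hJ using exists_notMem (𝒜 := 𝒜) f hirr
  let μ : ℤ → ι → M := fun N j => cz ℳ (N + n * d j) (m j)
  have hμ : ∀ N i j, f i ^ n • μ N j = f j ^ n • μ N i := fun N i j => by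
    have e1 := cz_smul ℳ (pow_mem_deg f d hf i n) (N + n * d j) (m j)
    have e2 := cz_smul ℳ (pow_mem_deg f d hf j n) (N + n * d i) (m i)
    show f i ^ n • cz ℳ _ _ = f j ^ n • cz ℳ _ _
    rw [← e1, ← e2, h i j]
    congr 1
    congr 1
    push_cast
    ring
  have hdeg : ∀ N j, μ N j = 0 ∨ ∃ i : ℕ, (i : ℤ) = (n * d j : ℕ) + N ∧ μ N j ∈ ℳ i := fun N j => by
    by_cases hN : 0 ≤ N + n * d j
    · obtain ⟨i, hi⟩ := Int.eq_ofNat_of_zero_le hN
      exact Or.inr ⟨i, by rw [← hi]; push_cast; ring, cz_mem ℳ hi.symm _⟩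
    · exact Or.inl (cz_neg ℳ (not_le.1 hN) _)
  have hsect : ∀ N : ℤ, ∃ s : Sec 𝒜 ℳ N, ∀ j, IsRep f d s j n (μ N j) := fun N => by
    have hmem : ∀ x : ProjectiveSpectrum 𝒜,
        (LocalizedModule.mk (μ N (J x)) ⟨f (J x) ^ n, pow_notMem f (hJ x) n⟩ : GrMod.LocMod 𝒜 (M := M) x) ∈
          GrMod.tildeAt 𝒜 ℳ N x := fun x => by
      rcases hdeg N (J x) with h0 | ⟨i, hi, him⟩
      · rw [h0, LocalizedModule.zero_mk]
        exact zero_mem _
      · exact Submodule.subset_span ⟨i, n * d (J x), ⟨_, him⟩, ⟨_, pow_mem_deg f d hf (J x) n⟩,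
          pow_notMem f (hJ x) n, hi, rfl⟩
    have heq : ∀ (x : ProjectiveSpectrum 𝒜) (j : ι) (hx : f j ∉ x.asHomogeneousIdeal),
        (LocalizedModule.mk (μ N (J x)) ⟨f (J x) ^ n, pow_notMem f (hJ x) n⟩ : GrMod.LocMod 𝒜 (M := M) x) =
          LocalizedModule.mk (μ N j) ⟨f j ^ n, pow_notMem f hx n⟩ := fun x j hx =>
      LocalizedModule.mk_eq.2 ⟨1, by simp only [one_smul]; exact hμ N j (J x)⟩
    let s : Sec 𝒜 ℳ N := (⟨fun x => ⟨_, hmem x.1⟩, fun x => by
      let j := J x.1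
      rcases hdeg N j with h0 | ⟨i, hi, him⟩
      · exact ⟨Proj.basicOpen 𝒜 (f j), hJ x.1, homOfLE le_top, 0, n * d j, 0, ⟨_, pow_mem_deg f d hf j n⟩,
          fun y => pow_notMem f y.2 n, Or.inr rfl, fun y => (heq y.1 j y.2).trans (by rw [h0]; rfl)⟩
      · exact ⟨Proj.basicOpen 𝒜 (f j), hJ x.1, homOfLE le_top, i, n * d j, ⟨_, him⟩, ⟨_, pow_mem_deg f d hf j n⟩,
          fun y => pow_notMem f y.2 n, Or.inl hi, fun y => heq y.1 j y.2⟩⟩ : GrMod.sect 𝒜 ℳ N (op ⊤))
    refine ⟨s, fun j => ⟨fun N' hN' => ?_, fun x hx => heq x j hx⟩⟩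
    rcases hdeg N j with h0 | ⟨i, hi, him⟩
    · rw [h0, map_zero]
    · rw [cz_hom ℳ him, if_neg]
      intro e
      apply hN'
      rw [e, hi]
      push_cast
      ring
  choose s hs using hsect
  let T : Finset ℤ := Finset.univ.biUnion fun j =>
    (DirectSum.decompose ℳ (m j)).support.image fun k : ℕ => (k : ℤ) - n * d j
  refine ⟨∑ N ∈ T, DirectSum.of (Sec 𝒜 ℳ) N (s N), fun j => ?_⟩
  rw [map_sum, Finset.sum_apply]
  let l : M →+ LocalizedModule (Submonoid.powers (f j)) M :=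
    AddMonoidHom.mk' (fun z => LocalizedModule.mk z ⟨f j ^ n, n, rfl⟩) fun y z => by
      rw [LocalizedModule.mk_add_mk, LocalizedModule.mk_eq]
      refine ⟨1, ?_⟩
      simp only [one_smul, Submonoid.smul_def, Submonoid.coe_mul, smul_add, smul_smul]
  have hsum : ∑ N ∈ T, μ N j = m j := by
    show ∑ N ∈ T, cz ℳ (N + n * d j) (m j) = m j
    let S := (DirectSum.decompose ℳ (m j)).support
    have hsub : S.image (fun k : ℕ => (k : ℤ) - n * d j) ⊆ T := fun N hN =>
      Finset.mem_biUnion.2 ⟨j, Finset.mem_univ _, hN⟩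
    rw [← Finset.sum_subset hsub (fun N _ hN => ?_), Finset.sum_image (fun a _ b _ e => by
      exact Int.natCast_inj.1 (sub_left_inj.1 e))]
    · conv_rhs => rw [← DirectSum.sum_support_decompose ℳ (m j)]
      refine Finset.sum_congr rfl fun k _ => ?_
      rw [sub_add_cancel, cz_natCast]
      rfl
    · by_cases hN' : 0 ≤ N + n * d j
      · obtain ⟨k, hk⟩ := Int.eq_ofNat_of_zero_le hN'
        rw [hk, cz_natCast]
        by_contra hne
        refine hN (Finset.mem_image.2 ⟨k, ?_, by omega⟩)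
        refine DFinsupp.mem_support_iff.2 fun h0 => hne ?_
        show ((DirectSum.decompose ℳ (m j) k : ℳ k) : M) = 0
        rw [h0]
        rfl
      · exact cz_neg ℳ (not_le.1 hN') _
  refine (Finset.sum_congr rfl fun N _ => ?_).trans ((map_sum l (fun N => μ N j) T).symm.trans (congrArg l hsum))
  rw [psi, DirectSum.toAddMonoid_of]
  exact psiN_eq f d hd hf (hs N j)

theorem range_psi : (psi (ℳ := ℳ) f d hd hf).range = (phi f M).range := by
  classical
  refine le_antisymm ?_ ?_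
  · rintro _ ⟨w, rfl⟩
    induction w using DirectSum.induction_on with
    | zero => rw [map_zero]; exact zero_mem _
    | add a b ha hb => rw [map_add]; exact add_mem ha hb
    | of n s =>
      rw [psi, DirectSum.toAddMonoid_of]
      choose p m hm using fun j => exists_isRep f d hd hf s j
      let Q := Finset.univ.sup p
      let m' : ι → M := fun j => f j ^ (Q - p j) • m j
      have hm' : ∀ j, IsRep f d s j Q (m' j) := fun j => by
        have := (hm j).shift f d hf (Q - p j)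
        rwa [Nat.add_sub_cancel' (Finset.le_sup (f := p) (Finset.mem_univ j))] at this
      have hN : ∀ q : ι × ι, ∃ N, (f q.1 * f q.2) ^ N • (f q.1 ^ Q • m' q.2 - f q.2 ^ Q • m' q.1) = 0 := by
        rintro ⟨i, j⟩
        have hx : ∀ x : ProjectiveSpectrum 𝒜, f i * f j ∉ x.asHomogeneousIdeal →
            ∃ t : A, t ∉ x.asHomogeneousIdeal ∧ t • (f i ^ Q • m' j - f j ^ Q • m' i) = 0 := fun x hx => by
          have hxi : f i ∉ x.asHomogeneousIdeal := fun h => hx (Ideal.mul_mem_right _ _ h)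
          have hxj : f j ∉ x.asHomogeneousIdeal := fun h => hx (Ideal.mul_mem_left _ _ h)
          obtain ⟨⟨t, ht⟩, e⟩ := LocalizedModule.mk_eq.1 (((hm' j).2 x hxj).symm.trans ((hm' i).2 x hxi))
          exact ⟨t, ht, by rw [smul_sub, sub_eq_zero]; exact e⟩
        have hmem : f i ^ Q • m' j - f j ^ Q • m' i = 0 ∨
            ∃ k, f i ^ Q • m' j - f j ^ Q • m' i ∈ ℳ k := by
          rcases (hm' i).mem f d with hi | ⟨a, ha, hi⟩ <;> rcases (hm' j).mem f d with hj | ⟨b, hb, hj⟩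
          · exact Or.inl (by rw [hi, hj, smul_zero, smul_zero, sub_zero])
          · refine Or.inr ⟨Q * d i + b, ?_⟩
            rw [hi, smul_zero, sub_zero]
            exact SetLike.GradedSMul.smul_mem (pow_mem_deg f d hf i Q) hj
          · refine Or.inr ⟨Q * d j + a, ?_⟩
            rw [hj, smul_zero, zero_sub]
            exact neg_mem (SetLike.GradedSMul.smul_mem (pow_mem_deg f d hf j Q) hi)
          · refine Or.inr ⟨Q * d i + b, sub_mem (SetLike.GradedSMul.smul_mem (pow_mem_deg f d hf i Q) hj) ?_⟩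
            have e : Q * d j + a = Q * d i + b := by
              zify
              omega
            exact e ▸ SetLike.GradedSMul.smul_mem (pow_mem_deg f d hf j Q) hi
        rcases hmem with h0 | ⟨k, hk⟩
        · exact ⟨0, by rw [h0, smul_zero]⟩
        · exact exists_pow_smul_eq_zero (Nat.add_pos_left (hd i) (d j)) (SetLike.mul_mem_graded (hf i) (hf j))
            (⟨_, hk⟩ : ℳ k) hx
      choose Nq hNq using hN
      let N := Finset.univ.sup Nq
      obtain ⟨z, hz⟩ := exists_of_compat (f := f) (Q + N) (fun j => f j ^ N • m' j) fun i j => by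
        have hle : Nq (i, j) ≤ N := Finset.le_sup (f := Nq) (Finset.mem_univ (i, j))
        clear_value m'
        have h1 : (f i * f j) ^ N • (f i ^ Q • m' j - f j ^ Q • m' i) = 0 := by
          rw [← Nat.sub_add_cancel hle, pow_add, mul_smul, hNq (i, j), smul_zero]
        rw [smul_sub, sub_eq_zero, smul_smul, smul_smul] at h1
        rw [smul_smul, smul_smul]
        rw [show f i ^ (Q + N) * f j ^ N = (f i * f j) ^ N * f i ^ Q by rw [mul_pow]; ring,
          show f j ^ (Q + N) * f i ^ N = (f i * f j) ^ N * f j ^ Q by rw [mul_pow]; ring]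
        exact h1
      refine ⟨z, funext fun j => (hz j).trans ?_⟩
      exact (psiN_eq f d hd hf ((hm' j).shift f d hf N)).symm
  · rintro _ ⟨z, rfl⟩
    obtain ⟨n, φ, rfl⟩ := LocCohLib.exists_dι z
    obtain ⟨w, hw⟩ := exists_psi_eq (ℳ := ℳ) f d hd hf hirr n (fun j => φ ⟨f j ^ n, mem_gI f j n⟩) fun i j => by
      rw [← map_smul φ, ← map_smul φ]
      refine congrArg φ ?_
      exact Subtype.ext (mul_comm _ _)
    refine ⟨w, funext fun j => (hw j).trans ?_⟩
    rw [phi_dι]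
    rfl

theorem coker_equiv : Nonempty ((DirectSum ℤ (Sec 𝒜 ℳ) ⧸
    AddSubgroup.closure (⋃ i : ℕ, Set.range (fun m : ℳ i =>
      DirectSum.of (Sec 𝒜 ℳ) (i : ℤ) (GrMod.alpha 𝒜 ℳ i m)))) ≃+
    (LocCoh.DT (gI f) M ⧸ LinearMap.range (LocCoh.toDT (gI f) M))) := by
  classical
  let e : DirectSum ℤ (Sec 𝒜 ℳ) ≃+ LocCoh.DT (gI f) M :=
    (AddMonoidHom.ofInjective (psi_injective (ℳ := ℳ) f d hd hf hirr)).trans
      ((AddEquiv.addSubgroupCongr (range_psi f d hd hf hirr)).trans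
        (AddMonoidHom.ofInjective (phi_injective (f := f) (M := M))).symm)
  have he : ∀ w, phi f M (e w) = psi f d hd hf w := fun w => by
    have h1 := (AddMonoidHom.ofInjective (phi_injective (f := f) (M := M))).apply_symm_apply
      (AddEquiv.addSubgroupCongr (range_psi f d hd hf hirr)
        (AddMonoidHom.ofInjective (psi_injective (ℳ := ℳ) f d hd hf hirr) w))
    exact congrArg Subtype.val h1
  have hα : ∀ i (m : ℳ i), e (DirectSum.of (Sec 𝒜 ℳ) (i : ℤ) (GrMod.alpha 𝒜 ℳ i m)) = LocCoh.toDT (gI f) M m.1 :=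
    fun i m => phi_injective (funext fun j => by rw [he, psi_alpha, phi_toDT])
  refine ⟨QuotientAddGroup.congr _ (LinearMap.range (LocCoh.toDT (gI f) M)).toAddSubgroup e ?_⟩
  rw [AddMonoidHom.map_closure]
  refine le_antisymm ((AddSubgroup.closure_le _).2 ?_) ?_
  · rintro _ ⟨w, hw, rfl⟩
    obtain ⟨i, m, rfl⟩ := Set.mem_iUnion.1 hw
    exact ⟨m.1, (hα i m).symm⟩
  · rintro _ ⟨z, rfl⟩
    induction z using DirectSum.Decomposition.inductionOn ℳ with
    | zero => rw [map_zero]; exact zero_mem _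
    | add a b ha hb => rw [map_add]; exact add_mem ha hb
    | @homogeneous i m =>
      exact AddSubgroup.subset_closure ⟨_, Set.mem_iUnion.2 ⟨i, m, rfl⟩, hα i m⟩

omit hirr hd hf in
theorem result_aux : Nonempty ((DirectSum ℤ (Sec 𝒜 ℳ) ⧸
    AddSubgroup.closure (⋃ i : ℕ, Set.range (fun m : ℳ i =>
      DirectSum.of (Sec 𝒜 ℳ) (i : ℤ) (GrMod.alpha 𝒜 ℳ i m)))) ≃+
    LocCoh.H (HomogeneousIdeal.irrelevant 𝒜).toIdeal 1 M) := by
  obtain ⟨G, hG, hspan⟩ := exists_homogeneous_gens (𝒜 := 𝒜) (IsNoetherian.noetherian _)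
  choose d hd hf using fun g : ↥G => hG g.1 g.2
  have hirr : (HomogeneousIdeal.irrelevant 𝒜).toIdeal = gI (fun g : ↥G => g.1) := by
    rw [gI, hspan]
    exact congrArg Ideal.span (Subtype.range_coe (s := (G : Set A))).symm
  obtain ⟨e⟩ := coker_equiv (ℳ := ℳ) (fun g : ↥G => g.1) d hd hf hirr
  obtain ⟨e'⟩ := LocCohLib.nonempty_coker_equiv (gI (fun g : ↥G => g.1)) M
  rw [hirr]
  exact ⟨e.trans e'.toAddEquiv⟩

end Groth.Agent.GrH1Lib
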